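import Groth.Agent.ASp.TrdegChart
import Groth.Agent.ASp.NoethFibre
import Groth.Agent.DimFormulaLib.General
import Groth.Agent.ASp.Infinitesimal
/-!
The dimension inequality for morphisms of algebraic spaces.
-/

set_option autoImplicit false
set_option backward.isDefEq.respectTransparency false
set_option backward.isDefEq.respectTransparency.types false
set_option linter.style.haveILetI false

universe u

open CategoryTheory CategoryTheory.Limits AlgebraicGeometry Topology TopologicalSpace Groth.Agent.DimFormulaLib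

namespace Groth.Agent.FibreComp

open _root_.AlgSp Groth.Agent.ASp

attribute [local instance 10] specializationOrder

theorem ringKrullDim_stalk_le_topologicalKrullDim {U : Scheme.{u}} (u : ↥U) :
    ringKrullDim ↥(U.presheaf.stalk u) ≤ topologicalKrullDim ↥U := by
  rw [ringKrullDim_stalk_eq_coheight, topologicalKrullDim_eq_krullDim (A := ↥U)]
  exact Order.coheight_le_krullDim u

theorem topologicalKrullDim_le_of_stalk {U : Scheme.{u}} {B : WithBot ℕ∞}
    (h : ∀ u : ↥U, ringKrullDim ↥(U.presheaf.stalk u) ≤ B) : topologicalKrullDim ↥U ≤ B := by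
  rw [topologicalKrullDim_eq_krullDim (A := ↥U), Order.krullDim_eq_iSup_coheight (α := ↥U)]
  exact iSup_le fun u => (ringKrullDim_stalk_eq_coheight u).symm.trans_le (h u)

theorem nat_le_toENat {n : ℕ} {c : Cardinal.{u}} (h : (n : Cardinal.{u}) ≤ c) : (n : ℕ∞) ≤ Cardinal.toENat c := by
  rw [← Cardinal.toENat_nat n]
  exact OrderHomClass.mono _ h

theorem withBot_le_add_top {a b : WithBot ℕ∞} (hb : 0 ≤ b) : a ≤ b + ((⊤ : ℕ∞) : WithBot ℕ∞) := by
  obtain ⟨b, rfl⟩ := WithBot.ne_bot_iff_exists.1 (show b ≠ ⊥ from fun h => by simp [h] at hb)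
  rw [← WithBot.coe_add, add_top]
  exact le_top

/-- The dimension inequality with cardinal bounds. -/
theorem stalk_dim_add_le {U V : Scheme.{u}} [IsLocallyNoetherian V] (k : U ⟶ V) [LocallyOfFiniteType k] (u : ↥U)
    (E : Cardinal.{u})
    (hE : ∀ η : ↥U, η ⤳ u → ringKrullDim ↥(U.presheaf.stalk η) = 0 → Dual3.resTrdeg k η ≤ E) :
    ringKrullDim ↥(U.presheaf.stalk u) + ((Cardinal.toENat (Dual3.resTrdeg k u) : ℕ∞) : WithBot ℕ∞) ≤
      ringKrullDim ↥(V.presheaf.stalk (k u)) + ((Cardinal.toENat E : ℕ∞) : WithBot ℕ∞) := by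
  rcases lt_or_ge E Cardinal.aleph0 with hlt | hge
  · obtain ⟨N, rfl⟩ := Cardinal.lt_aleph0.1 hlt
    obtain ⟨-, t, -, ht, -⟩ := exists_fibre_dims k u
    rw [ht, Cardinal.toENat_nat, Cardinal.toENat_nat]
    exact stalk_dim_add_trdeg_le k u t N ht fun ξ hξ hξu => hE ξ hξu (ringKrullDim_stalk_eq_zero fun w hw => by
      have hsub : closure ({ξ} : Set ↥U) ⊆ closure {w} :=
        closure_minimal (Set.singleton_subset_iff.2 hw.mem_closure) isClosed_closure
      have hwξ : ξ ⤳ w := specializes_iff_mem_closure.2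
        (hξ.2 (isIrreducible_singleton (x := w)).closure hsub (subset_closure rfl))
      exact (hw.antisymm hwξ).eq)
  · rw [Cardinal.toENat_eq_top.2 hge]
    exact withBot_le_add_top ringKrullDim_nonneg_of_nontrivial

variable {S : Scheme.{u}}

/-- The dimension formula inequality at a point of an algebraic space. -/
theorem stalk_dim_add_le_sp {X Y : Space S} (f : X ⟶ Y) (hY : IsLocNoethSp Y.obj)
    (hf : LocP @LocallyOfFiniteType f.hom) {U V : Over S} {a : (yon S).obj U ⟶ X.obj} {b : (yon S).obj V ⟶ Y.obj}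
    {k : U ⟶ V} (ha : RepWith @Etale a) (hb : RepWith @Etale b) (e : a ≫ f.hom = (yon S).map k ≫ b) (u : ↥U.left)
    (E : Cardinal.{u})
    (hE : ∀ ξ : Points X.obj, ξ ⤳ Points.ofPt a u →
      HasAt (fun U u => ringKrullDim ↥(U.presheaf.stalk u) = 0) X.obj ξ →
      ∀ s : Cardinal.{u}, HasAtMor (fun _ _ h u => Dual3.resTrdeg h u = s) f.hom ξ → s ≤ E) :
    ringKrullDim ↥(U.left.presheaf.stalk u) + ((Cardinal.toENat (Dual3.resTrdeg k.left u) : ℕ∞) : WithBot ℕ∞) ≤
      ringKrullDim ↥(V.left.presheaf.stalk (k.left u)) + ((Cardinal.toENat E : ℕ∞) : WithBot ℕ∞) := by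
  haveI : LocallyOfFiniteType k.left := hf a b k ha hb e
  haveI : IsLocallyNoetherian V.left := isLocallyNoetherian_of_chart hY hb
  exact stalk_dim_add_le k.left u E fun η hη hη0 =>
    hE _ (hη.map (Points.continuous_ofPt a)) ⟨U, a, η, ha, rfl, hη0⟩ _ ((hasAtMor_resTrdeg_iff ha hb e η _).2 rfl)

/-- The dimension of the source is bounded by that of the target and the generic transcendence degrees. -/
theorem dim_le_dim_add {X Y : Space S} (f : X ⟶ Y) (hY : IsLocNoethSp Y.obj)
    (hf : LocP @LocallyOfFiniteType f.hom) (E : Cardinal.{u})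
    (hE : ∀ ξ : Points X.obj, HasAt (fun U u => ringKrullDim ↥(U.presheaf.stalk u) = 0) X.obj ξ →
      ∀ s : Cardinal.{u}, HasAtMor (fun _ _ h u => Dual3.resTrdeg h u = s) f.hom ξ → s ≤ E) :
    dim X.obj ≤ dim Y.obj + ((Cardinal.toENat E : ℕ∞) : WithBot ℕ∞) := by
  refine iSup_le fun U₀ => iSup_le fun a₀ => iSup_le fun ha₀ => topologicalKrullDim_le_of_stalk fun u₀ => ?_
  obtain ⟨U, V, a, b, k, ha, has, hb, -, e⟩ := Groth.Agent.Inf.exists_chart (f := f.hom) X.property Y.property
  obtain ⟨u, hu⟩ := surjective_ofPt has (Points.ofPt a₀ u₀)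
  rw [ringKrullDim_stalk_eq_of_charts ha₀ ha hu.symm]
  refine le_trans ?_ ((stalk_dim_add_le_sp f hY hf ha hb e u E fun ξ _ => hE ξ).trans (add_le_add ?_ le_rfl))
  · exact le_add_of_nonneg_right (WithBot.coe_le_coe.2 bot_le)
  · exact (ringKrullDim_stalk_le_topologicalKrullDim _).trans
      (le_iSup_of_le V (le_iSup_of_le b (le_iSup_of_le hb le_rfl)))

end Groth.Agent.FibreComp
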