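import Groth.Agent.ASp.TrdegChart
import Groth.Agent.LocDimBC.Scheme
import Groth.Agent.S14105
/-!
Local rings of fibres and transcendence degrees under base change.
-/

set_option autoImplicit false
set_option backward.isDefEq.respectTransparency false
set_option backward.isDefEq.respectTransparency.types false
set_option linter.style.haveILetI false

universe u

open CategoryTheory CategoryTheory.Limits AlgebraicGeometry

namespace Groth.Agent.FibreComp

theorem isNoetherianRing_stalk_of_lft {X S : Scheme.{u}} (f : X ⟶ S) [LocallyOfFiniteType f] (s : S) (z : f.fiber s) :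
    IsNoetherianRing ((f.fiber s).presheaf.stalk z) := by
  haveI : LocallyOfFiniteType (f.fiberToSpecResidueField s) := MorphismProperty.pullback_snd _ _ ‹LocallyOfFiniteType f›
  haveI : IsLocallyNoetherian (f.fiber s) := LocallyOfFiniteType.isLocallyNoetherian (f.fiberToSpecResidueField s)
  infer_instance

/-- The dimension of the local ring of the fibre can only grow under base change. -/
theorem fiberStalk_dim_le_baseChange {X S S' : Scheme.{u}} (f : X ⟶ S) (g : S' ⟶ S) (x' : ↥(pullback f g)) :
    ringKrullDim (CInt.fiberStalk f (pullback.fst f g x')) ≤ ringKrullDim (CInt.fiberStalk (pullback.snd f g) x') := by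
  obtain ⟨φ, hflat, hcomp⟩ := S14105.exists_fibreMap f g (pullback.snd f g x')
  have h := S14105.stalk_dim_le φ ((pullback.snd f g).asFiber x')
  rw [S14105.dim_stalk_fiber, S14105.dim_stalk_fiber, Scheme.Hom.fiberι_asFiber, ← Scheme.Hom.comp_apply, hcomp,
    Scheme.Hom.comp_apply, Scheme.Hom.fiberι_asFiber] at h
  exact h

/-- Some point above has a fibre local ring of the same dimension. -/
theorem exists_fiberStalk_dim_eq {X S S' : Scheme.{u}} (f : X ⟶ S) [LocallyOfFiniteType f] (g : S' ⟶ S)
    (x' : ↥(pullback f g)) :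
    ∃ z : ↥(pullback f g), pullback.fst f g z = pullback.fst f g x' ∧ pullback.snd f g z = pullback.snd f g x' ∧
      ringKrullDim (CInt.fiberStalk (pullback.snd f g) z) = ringKrullDim (CInt.fiberStalk f (pullback.fst f g x')) := by
  obtain ⟨φ, hflat, hcomp⟩ := S14105.exists_fibreMap f g (pullback.snd f g x')
  haveI : LocallyOfFiniteType (pullback.snd f g) := inferInstance
  obtain ⟨z', hz', hdim⟩ := S14105.exists_stalk_dim_le φ (fun _ => isNoetherianRing_stalk_of_lft _ _ _)
    (fun _ => isNoetherianRing_stalk_of_lft _ _ _) ((pullback.snd f g).asFiber x')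
  have hy : pullback.fst f g ((pullback.snd f g).fiberι _ z') = pullback.fst f g x' := by
    rw [← Scheme.Hom.comp_apply, ← hcomp, Scheme.Hom.comp_apply, hz', ← Scheme.Hom.comp_apply, hcomp,
      Scheme.Hom.comp_apply, Scheme.Hom.fiberι_asFiber]
  refine ⟨(pullback.snd f g).fiberι _ z', hy, ((pullback.snd f g).fiberHomeo _ z').2, le_antisymm ?_ ?_⟩
  · rw [S14105.dim_stalk_fiber (pullback.snd f g) _ z', S14105.dim_stalk_fiber f _ (φ z'), ← Scheme.Hom.comp_apply,
      hcomp, Scheme.Hom.comp_apply, hy] at hdim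
    exact hdim
  · rw [← hy]
    exact fiberStalk_dim_le_baseChange f g _

/-- Fibre local rings of a source composed with an isomorphism. -/
theorem fiberStalk_dim_iso_comp {P Q S : Scheme.{u}} (e : P ≅ Q) (q : Q ⟶ S) [LocallyOfFiniteType q] (z : ↥P) :
    ringKrullDim (CInt.fiberStalk (e.hom ≫ q) z) = ringKrullDim (CInt.fiberStalk q (e.hom z)) := by
  obtain ⟨d, t, hd, ht, hD⟩ := ASp.exists_fibre_dims (e.hom ≫ q) z
  obtain ⟨d₁, t₁, hd₁, ht₁, hD₁⟩ := ASp.exists_fibre_dims q (e.hom z)
  have h1 := FibreDimEt.fibreDimAt_eq_of_etale q (e.hom ≫ q) e.hom (𝟙 S) (Category.comp_id _) z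
  rw [hD, hD₁] at h1
  have h2 : Dual3.resTrdeg (e.hom ≫ q) z = Dual3.resTrdeg q (e.hom z) :=
    ASp.resTrdegAt_of_etale (e.hom ≫ q) e.hom (𝟙 S) q (Category.comp_id _) z
  rw [ht, ht₁] at h2
  have h3 : d₁ + t₁ = d + t := by exact_mod_cast h1
  have h4 : t = t₁ := by exact_mod_cast h2
  exact hd.trans (by rw [show d = d₁ by omega]; exact hd₁.symm)

/-- The dimension of the local ring of the fibre can only grow in a cartesian square. -/
theorem fiberStalk_dim_le_of_isPullback {X S X' S' : Scheme.{u}} {f : X ⟶ S} [LocallyOfFiniteType f] {g : S' ⟶ S}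
    {g' : X' ⟶ X} {f' : X' ⟶ S'} (sq : IsPullback g' f' f g) (x' : ↥X') :
    ringKrullDim (CInt.fiberStalk f (g' x')) ≤ ringKrullDim (CInt.fiberStalk f' x') := by
  have e1 : g' x' = pullback.fst f g (sq.isoPullback.hom x') := by
    rw [← Scheme.Hom.comp_apply, sq.isoPullback_hom_fst]
  rw [← sq.isoPullback_hom_snd, fiberStalk_dim_iso_comp, e1]
  exact fiberStalk_dim_le_baseChange f g _

/-- Over given points some point of a cartesian square has a fibre local ring of the same dimension. -/
theorem exists_fiberStalk_dim_eq_of_isPullback {X S X' S' : Scheme.{u}} {f : X ⟶ S} [LocallyOfFiniteType f]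
    {g : S' ⟶ S} {g' : X' ⟶ X} {f' : X' ⟶ S'} (sq : IsPullback g' f' f g) (x' : ↥X') :
    ∃ z : ↥X', g' z = g' x' ∧ f' z = f' x' ∧
      ringKrullDim (CInt.fiberStalk f' z) = ringKrullDim (CInt.fiberStalk f (g' x')) := by
  obtain ⟨z, h1, h2, h3⟩ := exists_fiberStalk_dim_eq f g (sq.isoPullback.hom x')
  obtain ⟨z, rfl⟩ : ∃ w, sq.isoPullback.hom w = z := sq.isoPullback.hom.homeomorph.surjective z
  simp only [← Scheme.Hom.comp_apply, sq.isoPullback_hom_fst, sq.isoPullback_hom_snd] at h1 h2 h3
  refine ⟨z, h1, h2, ?_⟩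
  have e1 : g' x' = pullback.fst f g (sq.isoPullback.hom x') := by
    rw [← Scheme.Hom.comp_apply, sq.isoPullback_hom_fst]
  rw [← sq.isoPullback_hom_snd, fiberStalk_dim_iso_comp, e1]
  exact h3

end Groth.Agent.FibreComp
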