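import Groth.Agent.ASp.TrdegChart
import Groth.Agent.LocDimBC.Scheme
import Groth.Agent.CMFlatLib.BaseChange
import Groth.Agent.S5769
import Groth.Agent.S2858
/-!
Fibre dimensions in a composite of morphisms.
-/

set_option autoImplicit false
set_option backward.isDefEq.respectTransparency false
set_option backward.isDefEq.respectTransparency.types false
set_option linter.style.haveILetI false

universe u

open CategoryTheory CategoryTheory.Limits AlgebraicGeometry Groth.Agent.DimFormulaLib

namespace Groth.Agent.FibreComp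

theorem ringKrullDim_quotient_of_flat {A B : Type u} [CommRing A] [CommRing B] [IsLocalRing A] [IsLocalRing B]
    [IsNoetherianRing A] [IsNoetherianRing B] [Algebra A B] [IsLocalHom (algebraMap A B)] [Module.Flat A B] :
    ringKrullDim A + ringKrullDim (B ⧸ (IsLocalRing.maximalIdeal A).map (algebraMap A B)) = ringKrullDim B := by
  haveI : (IsLocalRing.maximalIdeal B).LiesOver (IsLocalRing.maximalIdeal A) := ⟨(((IsLocalRing.local_hom_TFAE
    (algebraMap A B)).out 0 4 rfl rfl).mp inferInstance).symm⟩
  let J := (IsLocalRing.maximalIdeal A).map (algebraMap A B)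
  have hJ : J ≤ IsLocalRing.maximalIdeal B :=
    ((IsLocalRing.local_hom_TFAE (algebraMap A B)).out 0 2 rfl rfl).mp inferInstance
  haveI : Nontrivial (B ⧸ J) := Ideal.Quotient.nontrivial_iff.2 fun h =>
    (IsLocalRing.maximalIdeal.isMaximal B).ne_top (top_le_iff.1 (h ▸ hJ))
  haveI : IsLocalRing (B ⧸ J) := IsLocalRing.of_surjective' _ Ideal.Quotient.mk_surjective
  have hm : (IsLocalRing.maximalIdeal B).map (Ideal.Quotient.mk J) = IsLocalRing.maximalIdeal (B ⧸ J) :=
    IsLocalRing.map_maximalIdeal_of_surjective _ Ideal.Quotient.mk_surjective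
  rw [← IsLocalRing.maximalIdeal_height_eq_ringKrullDim, ← IsLocalRing.maximalIdeal_height_eq_ringKrullDim,
    ← IsLocalRing.maximalIdeal_height_eq_ringKrullDim,
    Ideal.height_eq_height_add_of_liesOver_of_hasGoingDown (IsLocalRing.maximalIdeal A) (IsLocalRing.maximalIdeal B)]
  simp only [WithBot.coe_add]
  rw [← hm]

/-- The dimension of a fibre of a composite is at most the sum, with equality at points of flatness. -/
theorem fibreDimAt_comp {X Y S : Scheme.{u}} (f : X ⟶ Y) (g : Y ⟶ S) [LocallyOfFiniteType f] [LocallyOfFiniteType g]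
    (x : ↥X) : FlatMor.fibreDimAt (f ≫ g) x ≤ FlatMor.fibreDimAt f x + FlatMor.fibreDimAt g (f x) ∧
      ((f.stalkMap x).hom.Flat →
        FlatMor.fibreDimAt (f ≫ g) x = FlatMor.fibreDimAt f x + FlatMor.fibreDimAt g (f x)) := by
  let h := f ≫ g
  let s := g (f x)
  haveI : LocallyOfFiniteType (h.fiberToSpecResidueField s) :=
    MorphismProperty.pullback_snd _ _ (inferInstanceAs (LocallyOfFiniteType (f ≫ g)))
  haveI : LocallyOfFiniteType (g.fiberToSpecResidueField s) :=
    MorphismProperty.pullback_snd _ _ ‹LocallyOfFiniteType g›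
  haveI : IsLocallyNoetherian (h.fiber s) := LocallyOfFiniteType.isLocallyNoetherian (h.fiberToSpecResidueField s)
  haveI : IsLocallyNoetherian (g.fiber s) := LocallyOfFiniteType.isLocallyNoetherian (g.fiberToSpecResidueField s)
  have sqG : IsPullback (g.fiberι s) (g.fiberToSpecResidueField s) g (S.fromSpecResidueField s) :=
    IsPullback.of_hasPullback _ _
  have sqF : IsPullback (h.fiberι s) (h.fiberToSpecResidueField s) h (S.fromSpecResidueField s) :=
    IsPullback.of_hasPullback _ _
  let φ : h.fiber s ⟶ g.fiber s := sqG.lift (h.fiberι s ≫ f) (h.fiberToSpecResidueField s)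
    (by rw [Category.assoc]; exact sqF.w)
  have sq : IsPullback (h.fiberι s) φ f (g.fiberι s) := by
    refine IsPullback.of_bot (v₂₁ := g.fiberToSpecResidueField s) (v₂₂ := g) (h₃₁ := S.fromSpecResidueField s) ?_
      (sqG.lift_fst _ _ _).symm sqG
    rw [sqG.lift_snd]
    exact sqF
  haveI : LocallyOfFiniteType φ := MorphismProperty.of_isPullback sq ‹LocallyOfFiniteType f›
  let z : ↥(h.fiber s) := h.asFiber x
  have hz : h.fiberι s z = x := h.fiberι_asFiber x
  have hw : g.fiberι s (φ z) = f x := by
    rw [← Scheme.Hom.comp_apply, sqG.lift_fst, Scheme.Hom.comp_apply, hz]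
  have hwz : φ z = g.asFiber (f x) := (g.fiberι s).isEmbedding.injective (hw.trans (g.fiberι_asFiber (f x)).symm)
  obtain ⟨a, t, ha, ht, hd⟩ := ASp.exists_fibre_dims h x
  obtain ⟨b, tg, hb, htg, hdg⟩ := ASp.exists_fibre_dims g (f x)
  obtain ⟨d, tf, hdf, htf, hdd⟩ := ASp.exists_fibre_dims f x
  obtain ⟨d', t', hd', ht', hdd'⟩ := ASp.exists_fibre_dims φ z
  have htsum : t = tg + tf := by
    have := FlatDim.resTrdegAt_comp f g x
    rw [show resTrdegAt (f ≫ g) x = t from ht, show resTrdegAt g (f x) = tg from htg,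
      show resTrdegAt f x = tf from htf] at this
    exact_mod_cast this
  have htt : t' = tf := by
    have := FlatDim.resTrdegAt_congr sq.w z
    rw [FlatDim.resTrdegAt_comp, FlatDim.resTrdegAt_comp, FlatDim.resTrdegAt_preimmersion (h.fiberι s),
      FlatDim.resTrdegAt_preimmersion (g.fiberι s), add_zero, zero_add, FlatDim.resTrdegAt_point f hz,
      show resTrdegAt f x = tf from htf, show resTrdegAt φ z = t' from ht'] at this
    exact_mod_cast this.symm
  have hdeq : d' = d := by
    have := LocDimBC.fibreDimAt_baseChange sq z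
    rw [hz, hdd, hdd'] at this
    have : d' + t' = d + tf := by exact_mod_cast this
    omega
  letI := (φ.stalkMap z).hom.toAlgebra
  haveI : IsLocalHom (algebraMap ((g.fiber s).presheaf.stalk (φ z)) ((h.fiber s).presheaf.stalk z)) :=
    inferInstanceAs (IsLocalHom (φ.stalkMap z).hom)
  have hq : ringKrullDim ((h.fiber s).presheaf.stalk z ⧸
      (IsLocalRing.maximalIdeal ((g.fiber s).presheaf.stalk (φ z))).map (φ.stalkMap z).hom) = (d' : WithBot ℕ∞) :=
    (S2858.ringKrullDim_fiberStalk φ z).symm.trans hd'
  have hbb : ringKrullDim ((g.fiber s).presheaf.stalk (φ z)) = (b : WithBot ℕ∞) := by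
    rw [hwz]; exact hb
  refine ⟨?_, fun hflat => ?_⟩
  · have := S5769.result ((g.fiber s).presheaf.stalk (φ z)) ((h.fiber s).presheaf.stalk z)
    rw [RingHom.algebraMap_toAlgebra, hq, hbb, show ringKrullDim ((h.fiber s).presheaf.stalk z) = _ from ha] at this
    have : a ≤ b + d' := by exact_mod_cast this
    rw [hd, hdd, hdg]
    exact_mod_cast (by omega : a + t ≤ d + tf + (b + tg))
  · haveI : Module.Flat ((g.fiber s).presheaf.stalk (φ z)) ((h.fiber s).presheaf.stalk z) :=
      CMFlatLib.flat_stalkMap_baseChange sq z (by rw [hz]; exact hflat)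
    have := ringKrullDim_quotient_of_flat (A := (g.fiber s).presheaf.stalk (φ z)) (B := (h.fiber s).presheaf.stalk z)
    rw [RingHom.algebraMap_toAlgebra, hq, hbb, show ringKrullDim ((h.fiber s).presheaf.stalk z) = _ from ha] at this
    have : b + d' = a := by exact_mod_cast this
    rw [hd, hdd, hdg]
    exact_mod_cast (by omega : a + t = d + tf + (b + tg))

end Groth.Agent.FibreComp
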