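import Groth.Agent.ASp.TrdegChart
import Groth.Agent.ASp.Infinitesimal
import Groth.Agent.DimFormulaLib.Field
import Groth.Agent.ASp.LiftDim
/-!
Dimension of the source of a proper dominant morphism.
-/

set_option autoImplicit false
set_option backward.isDefEq.respectTransparency false
set_option backward.isDefEq.respectTransparency.types false
set_option linter.style.haveILetI false

universe u

open CategoryTheory CategoryTheory.Limits AlgebraicGeometry Topology TopologicalSpace

namespace Groth.Agent.FibreComp

open _root_.AlgSp Groth.Agent.ASp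

attribute [local instance 10] specializationOrder

theorem height_head_add_length_le {α : Type*} [PartialOrder α] (l : LTSeries α) :
    Order.height l.head + l.length ≤ Order.height l.last := by
  have key : ∀ (i : ℕ) (hi : i < l.length + 1), Order.height l.head + i ≤ Order.height (l ⟨i, hi⟩) := by
    intro i
    induction i with
    | zero => intro hi; rw [Nat.cast_zero, add_zero]; exact le_rfl
    | succ j ih =>
      intro hi
      refine le_trans ?_ (Order.height_add_one_le (l.strictMono (show (⟨j, by omega⟩ : Fin (l.length + 1)) < ⟨j + 1, hi⟩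
        from Nat.lt_succ_self j)))
      rw [Nat.cast_succ, ← add_assoc]
      exact add_le_add (ih _) le_rfl
  exact key l.length (by omega)

/-- Closed maps do not lower the height of specialisations. -/
theorem height_map_le_height {A B : Type*} [TopologicalSpace A] [TopologicalSpace B] [T0Space A] [T0Space B]
    {f : A → B} (hf : IsClosedMap f) (z : A) : Order.height (f z) ≤ Order.height z := by
  have key : ∀ (n : ℕ) (z : A), (n : ℕ∞) ≤ Order.height (f z) → (n : ℕ∞) ≤ Order.height z := by
    intro n
    induction n with
    | zero => simp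
    | succ j ih =>
      intro z hz
      obtain ⟨l, hl, hlen⟩ := Order.exists_series_of_le_height (f z) hz
      have hlt : l.eraseLast.last < f z := by
        rw [← hl]
        exact LTSeries.strictMono l (by simp [Fin.lt_def]; omega)
      have hj : (j : ℕ∞) ≤ Order.height l.eraseLast.last := by
        refine le_trans ?_ (Order.length_le_height_last (p := l.eraseLast))
        simp [hlen]
      obtain ⟨z', hz', hzf⟩ := hf.specializingMap (show f z ⤳ l.eraseLast.last from hlt.le)
      have hlt' : z' < z := lt_of_le_of_ne (show z ⤳ z' from hz') fun e => hlt.ne (by rw [← hzf, e])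
      rw [Nat.cast_succ]
      exact (add_le_add (ih z' (hzf ▸ hj)) le_rfl).trans (Order.height_add_one_le hlt')
  cases h : Order.height (f z) with
  | top => exact (ENat.eq_top_iff_forall_ge.2 fun n => key n z (h ▸ le_top)).ge
  | coe n => exact key n z h.ge

variable {S : Scheme.{u}}

/-- The dimension of the target plus the dimension of the generic fibre is at most the dimension of the source. -/
theorem dim_add_le_dim {X Y : Space S} (f : X ⟶ Y) (hXdec : IsDecent X.obj) (hYdec : IsDecent Y.obj)
    (hft : LocP @LocallyOfFiniteType f.hom) (hc : IsClosedMap (Points.map f.hom))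
    (x : Points X.obj) (y : Points Y.obj) (hy : ∀ w, y ⤳ w) (hxy : Points.map f.hom x = y) (r : ℕ)
    (hr : HasAtMor (fun _ _ h u => Dual3.resTrdeg h u = (r : Cardinal.{u})) f.hom x) :
    dim Y.obj + ((r : ℕ∞) : WithBot ℕ∞) ≤ dim X.obj := by
  haveI := t0Space_of_isDecent X.2 hXdec
  haveI := t0Space_of_isDecent Y.2 hYdec
  have hY : dim Y.obj ≤ (Order.height y : WithBot ℕ∞) := by
    refine iSup_le fun V => iSup_le fun b => iSup_le fun hb => ?_
    rw [topologicalKrullDim_eq_krullDim (A := ↥V.left)]
    refine (Order.krullDim_le_of_strictMono _ (isGenLift_ofPt hYdec hb).strictMono).trans ?_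
    rw [Order.krullDim_eq_iSup_height]
    exact iSup_le fun w => WithBot.coe_le_coe.2 (Order.height_mono (show w ≤ y from hy w))
  have hX : (Order.height x : WithBot ℕ∞) ≤ dim X.obj := by
    refine (Order.height_le_krullDim x).trans ?_
    rw [Order.krullDim_eq_iSup_coheight]
    refine iSup_le fun z => ?_
    obtain ⟨U, a, ha, has⟩ := X.2.atlas
    obtain ⟨w, rfl⟩ := surjective_ofPt has z
    rw [(isGenLift_ofPt hXdec ha).coheight_eq]
    refine le_iSup_of_le U (le_iSup_of_le a (le_iSup_of_le ha ?_))
    rw [topologicalKrullDim_eq_krullDim (A := ↥U.left)]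
    exact Order.coheight_le_krullDim w
  obtain ⟨U, V, a, b, k, u, ha, hb, e, rfl, hr⟩ := hr
  haveI : LocallyOfFiniteType k.left := hft a b k ha hb e
  haveI : LocallyOfFiniteType (k.left.fiberToSpecResidueField (k.left u)) :=
    MorphismProperty.pullback_snd _ _ ‹LocallyOfFiniteType k.left›
  obtain ⟨-, t, -, ht, -, hh⟩ :=
    DimFormulaLib.field_dims (k.left.fiberToSpecResidueField (k.left u)) (k.left.asFiber u)
  rw [FlatDim.resTrdegAt_fibre, k.left.fiberι_asFiber u] at ht
  have htr : t = r := by exact_mod_cast ht.symm.trans hr
  subst htr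
  obtain ⟨l, hl, hlen⟩ := Order.exists_series_of_le_height (k.left.asFiber u) hh.ge
  have hι : StrictMono (k.left.fiberι (k.left u)) := fun p q h => lt_of_le_of_ne
    (show k.left.fiberι (k.left u) q ⤳ k.left.fiberι (k.left u) p from
      Specializes.map h.le (k.left.fiberι (k.left u)).continuous)
    fun e => h.ne ((k.left.fiberι (k.left u)).isEmbedding.injective e)
  let g : ↥(k.left.fiber (k.left u)) → Points X.obj := fun p => Points.ofPt a (k.left.fiberι (k.left u) p)
  have hg : StrictMono g := (isGenLift_ofPt hXdec ha).strictMono.comp hι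
  let L := l.map g hg
  have hlast : L.last = Points.ofPt a u := by
    rw [LTSeries.last_map, hl]
    show Points.ofPt a (k.left.fiberι (k.left u) (k.left.asFiber u)) = _
    rw [k.left.fiberι_asFiber u]
  have hhead : Points.map f.hom L.head = y := by
    rw [LTSeries.head_map, ← hxy]
    show Points.map f.hom (Points.ofPt a (k.left.fiberι (k.left u) l.head)) = _
    rw [Points.map_ofPt, Points.map_ofPt, e, ofPt_yon_map_comp, ofPt_yon_map_comp]
    have hmem : k.left.fiberι (k.left u) l.head ∈ Set.range (k.left.fiberι (k.left u)) := Set.mem_range_self _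
    rw [Scheme.Hom.range_fiberι] at hmem
    rw [show k.left (k.left.fiberι (k.left u) l.head) = k.left u from hmem]
  have h1 := height_head_add_length_le L
  rw [hlast, show L.length = t from hlen] at h1
  have h2 := height_map_le_height hc L.head
  rw [hhead] at h2
  refine le_trans (add_le_add hY le_rfl) (le_trans ?_ hX)
  rw [← WithBot.coe_add]
  exact WithBot.coe_le_coe.2 ((add_le_add h2 le_rfl).trans h1)

end Groth.Agent.FibreComp
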